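import Cfsg.Agent.Lib.LocalEven.AsymL.Module
import Cfsg.Agent.Lib.LocalEven.CoreOf

/-!
Noncentral chief factors inside `O_p(H)` of a group `H` of characteristic `p`.
-/

set_option autoImplicit false

namespace CfsgLib.LocalEven.AsymL

open Subgroup Cfsg
open scoped commutatorElement

variable {G : Type*} [Group G]

/-- `V / W` is a noncentral chief factor of `H` inside `O_p(H)`. -/
structure IsFactor (p : ℕ) (H V W : Subgroup G) : Prop where
  le : V ≤ pCoreOf p H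
  nV : H ≤ normalizer (V : Set G)
  nW : H ≤ normalizer (W : Set G)
  lt : W < V
  chief : ∀ Z : Subgroup G, H ≤ normalizer (Z : Set G) → W ≤ Z → Z ≤ V → Z = W ∨ Z = V
  noncentral : ¬ ⁅V, H⁆ ≤ W

/-- `x` fixes every noncentral chief factor. -/
def Fixes (p : ℕ) (H : Subgroup G) (x : G) : Prop :=
  ∀ V W : Subgroup G, IsFactor p H V W → ∀ v ∈ V, x * v * x⁻¹ * v⁻¹ ∈ W

theorem fixes_mul {p : ℕ} {H : Subgroup G} {x y : G} (hxH : x ∈ H) (hx : Fixes p H x) (hy : Fixes p H y) :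
    Fixes p H (x * y) := by
  intro V W hF v hv
  have e : x * y * v * (x * y)⁻¹ * v⁻¹ = (x * (y * v * y⁻¹ * v⁻¹) * x⁻¹) * (x * v * x⁻¹ * v⁻¹) := by group
  rw [e]
  exact mul_mem ((Subgroup.mem_normalizer_iff.1 (hF.nW hxH) _).1 (hy V W hF v hv)) (hx V W hF v hv)

variable [Finite G] {p : ℕ} [hp : Fact p.Prime] {H : Subgroup G}

theorem exists_max_below {N : Subgroup G} (hN : N ≠ ⊥) :
    ∃ W : Subgroup G, H ≤ normalizer (W : Set G) ∧ W < N ∧
      ∀ Z : Subgroup G, H ≤ normalizer (Z : Set G) → W ≤ Z → Z ≤ N → Z = W ∨ Z = N := by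
  obtain ⟨W, -, hW⟩ := Finite.exists_le_maximal
    (p := fun W : Subgroup G => H ≤ normalizer (W : Set G) ∧ W < N) (a := ⊥)
    ⟨by rw [(Subgroup.normalizer_eq_top_iff).2 inferInstance]; exact le_top, bot_lt_iff_ne_bot.2 hN⟩
  refine ⟨W, hW.1.1, hW.1.2, fun Z hZ hWZ hZN => ?_⟩
  rcases eq_or_lt_of_le hZN with h | h
  · exact Or.inr h
  · exact Or.inl (le_antisymm (hW.2 ⟨hZ, h⟩ hWZ) hWZ)

/-- A `p'`-element fixing every noncentral chief factor is trivial. -/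
theorem eq_one_of_fixes (hchar : centralizer (pCore p ↥H : Set ↥H) ≤ pCore p ↥H) {x : G} (hxH : x ∈ H)
    (hxo : (orderOf x).Coprime p) (hfix : Fixes p H x) : x = 1 := by
  set D := pCoreOf p H with hD
  have hDp : IsPGroup p ↥D := isPGroup_pCoreOf p H
  have key : ∀ n : ℕ, ∀ N : Subgroup G, Nat.card N ≤ n → N ≤ D → H ≤ normalizer (N : Set G) →
      ∀ v ∈ N, x * v = v * x := by
    intro n
    induction n with
    | zero =>
      intro N hN
      exact absurd hN (Nat.not_le.2 Nat.card_pos)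
    | succ n ih =>
      intro N hN hND hHN v hv
      by_cases hbot : N = ⊥
      · rw [hbot, Subgroup.mem_bot] at hv
        rw [hv, one_mul, mul_one]
      obtain ⟨W, hWn, hWlt, hWmax⟩ := exists_max_below (H := H) hbot
      have hW : ∀ w ∈ W, x * w = w * x := ih W (Nat.le_of_lt_succ (lt_of_lt_of_le
        (Set.ncard_lt_ncard (SetLike.coe_ssubset_coe.2 hWlt) (Set.toFinite _) |> fun h => by
          rwa [← Nat.card_coe_set_eq, ← Nat.card_coe_set_eq] at h) hN)) (hWlt.le.trans hND) hWn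
      have hd : x * v * x⁻¹ * v⁻¹ ∈ W := by
        by_cases hc : ⁅N, H⁆ ≤ W
        · have h1 := hc (Subgroup.commutator_mem_commutator hv hxH)
          rw [commutatorElement_def] at h1
          have h2 := W.inv_mem h1
          rwa [show (v * x * v⁻¹ * x⁻¹)⁻¹ = x * v * x⁻¹ * v⁻¹ by group] at h2
        · exact hfix N W ⟨hND, hHN, hWn, hWlt, hWmax, hc⟩ v hv
      have hvH : v⁻¹ ∈ H := H.inv_mem (pCoreOf_le p H (hND hv))
      have hd' : v⁻¹ * (x * v * x⁻¹) ∈ W := by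
        have := (Subgroup.mem_normalizer_iff.1 (hWn hvH) _).1 hd
        rwa [show v⁻¹ * (x * v * x⁻¹ * v⁻¹) * v⁻¹⁻¹ = v⁻¹ * (x * v * x⁻¹) by group] at this
      exact commute_of_conj_eq_mul hDp (hND (hWlt.le hd')) hxo (by group) (hW _ hd')
  have hx : x ∈ H ⊓ centralizer (D : Set G) := ⟨hxH, Subgroup.mem_centralizer_iff.2 fun v hv =>
    (key _ D le_rfl le_rfl (le_normalizer_pCoreOf p H) v hv).symm⟩
  exact eq_one_of_pow_eq_one_of_pGroup hDp (inf_centralizer_pCoreOf_le hchar hx) hxo (pow_orderOf_eq_one x)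

/-- Elements fixing all noncentral chief factors lie in `O_p(H)`. -/
theorem mem_pCoreOf_of_fixes (hchar : centralizer (pCore p ↥H : Set ↥H) ≤ pCore p ↥H) {x : G} (hxH : x ∈ H)
    (hfix : Fixes p H x) : x ∈ pCoreOf p H := by
  let K₀ : Submonoid G :=
    { carrier := {x | x ∈ H ∧ Fixes p H x}
      one_mem' := ⟨H.one_mem, fun V W _ v _ => by simp⟩
      mul_mem' := fun {a b} ha hb => ⟨H.mul_mem ha.1 hb.1, fixes_mul ha.1 ha.2 hb.2⟩ }
  let K : Subgroup G :=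
    { K₀ with
      inv_mem' := fun {a} ha => by
        have h1 : a ^ (orderOf a - 1) ∈ K₀ := pow_mem ha _
        have h2 : a⁻¹ = a ^ (orderOf a - 1) := by
          refine inv_eq_of_mul_eq_one_right ?_
          rw [← pow_succ', Nat.sub_add_cancel (orderOf_pos a), pow_orderOf_eq_one]
        rw [h2]; exact h1 }
  have hKH : K ≤ H := fun y hy => hy.1
  have hKp : IsPGroup p ↥K :=
    isPGroup_of_forall_coprime fun y hy hyo => eq_one_of_fixes hchar hy.1 hyo hy.2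
  refine le_pCoreOf hKH hKp (fun g hg => mem_normalizer_of_conj_le ?_) (show x ∈ K from ⟨hxH, hfix⟩)
  rintro _ ⟨y, ⟨hy, hyf⟩, rfl⟩
  refine ⟨H.mul_mem (H.mul_mem hg hy) (H.inv_mem hg), fun V W hF v hv => ?_⟩
  have hv' : g⁻¹ * v * g ∈ V := (Subgroup.mem_normalizer_iff''.1 (hF.nV hg) v).1 hv
  have := (Subgroup.mem_normalizer_iff.1 (hF.nW hg) _).1 (hyf V W hF _ hv')
  show g * y * g⁻¹ * v * (g * y * g⁻¹)⁻¹ * v⁻¹ ∈ W
  rwa [show g * (y * (g⁻¹ * v * g) * y⁻¹ * (g⁻¹ * v * g)⁻¹) * g⁻¹ =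
    g * y * g⁻¹ * v * (g * y * g⁻¹)⁻¹ * v⁻¹ by group] at this

/-- There is a noncentral chief factor unless `H` is a `p`-group. -/
theorem exists_factor (hchar : centralizer (pCore p ↥H : Set ↥H) ≤ pCore p ↥H) {y : G} (hy : y ∈ H)
    (hyD : y ∉ pCoreOf p H) : ∃ V W : Subgroup G, IsFactor p H V W := by
  by_contra hne
  push Not at hne
  exact hyD (mem_pCoreOf_of_fixes hchar hy fun V W hF => absurd hF (hne V W))

variable {V W : Subgroup G}

/-- The image in `H / W` of a subgroup. -/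
abbrev bar (H W : Subgroup G) [(W.subgroupOf H).Normal] (X : Subgroup G) :
    Subgroup (↥H ⧸ W.subgroupOf H) :=
  (X.subgroupOf H).map (QuotientGroup.mk' (W.subgroupOf H))

omit [Finite G] hp in
theorem mem_bar [(W.subgroupOf H).Normal] {X : Subgroup G} {x : G} (hxH : x ∈ H) (hx : x ∈ X) :
    QuotientGroup.mk' (W.subgroupOf H) ⟨x, hxH⟩ ∈ bar H W X :=
  ⟨⟨x, hxH⟩, hx, rfl⟩

omit [Finite G] hp in
theorem mem_of_mk_eq_one [(W.subgroupOf H).Normal] {x : G} (hxH : x ∈ H)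
    (h : QuotientGroup.mk' (W.subgroupOf H) ⟨x, hxH⟩ = 1) : x ∈ W :=
  Subgroup.mem_subgroupOf.1 ((QuotientGroup.eq_one_iff _).1 h)

omit [Finite G] hp in
theorem bar_mono [(W.subgroupOf H).Normal] {X X' : Subgroup G} (h : X ≤ X') : bar H W X ≤ bar H W X' :=
  Subgroup.map_mono (Subgroup.comap_mono h)

omit [Finite G] hp in
theorem bar_sup [(W.subgroupOf H).Normal] {X X' : Subgroup G} (hX : X ≤ H) (hX' : X' ≤ H) :
    bar H W (X ⊔ X') = bar H W X ⊔ bar H W X' := by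
  rw [bar, Subgroup.subgroupOf_sup hX hX', Subgroup.map_sup]

omit [Finite G] hp in
theorem bar_conj [(W.subgroupOf H).Normal] {X : Subgroup G} (hX : X ≤ H) {g : G} (hg : g ∈ H) :
    bar H W (X.map (MulAut.conj g).toMonoidHom) =
      cj (QuotientGroup.mk' (W.subgroupOf H) ⟨g, hg⟩) (bar H W X) := by
  ext z
  constructor
  · rintro ⟨⟨x, hxH⟩, hx, rfl⟩
    obtain ⟨x', hx', he⟩ := hx
    refine ⟨_, mem_bar (hX hx') hx', ?_⟩
    rw [MulEquiv.coe_toMonoidHom, MulAut.conj_apply, ← map_inv, ← map_mul, ← map_mul]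
    exact congrArg _ (Subtype.ext he)
  · rintro ⟨_, ⟨⟨x, hxH⟩, hx, rfl⟩, rfl⟩
    rw [MulEquiv.coe_toMonoidHom, MulAut.conj_apply, ← map_inv, ← map_mul, ← map_mul]
    exact mem_bar (H.mul_mem (H.mul_mem hg hxH) (H.inv_mem hg)) ⟨x, hx, rfl⟩

/-- The setting in `H / W`. -/
theorem setting (hF : IsFactor p H V W) [(W.subgroupOf H).Normal] {Y P L : Subgroup G} {g : G}
    (hYP : Y ≤ P) (hPH : P ≤ H) (hP : IsPGroup p ↥P) (hPY : P ≤ centralizer (Y : Set G))
    (hDY : pCoreOf p H ≤ normalizer (Y : Set G)) (hLH : L ≤ H) (hYL : Y ≤ L) (hgL : g ∈ L)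
    (hLgen : L ≤ Y ⊔ Y.map (MulAut.conj g).toMonoidHom)
    (hgen : Y.map (MulAut.conj g).toMonoidHom ⊔ P = H)
    (hgen' : Y.map (MulAut.conj g⁻¹).toMonoidHom ⊔ P = H) :
    Setting p (bar H W V) (bar H W Y) (bar H W P) (bar H W L)
      (QuotientGroup.mk' (W.subgroupOf H) ⟨g, hLH hgL⟩) := by
  have hYH : Y ≤ H := hYP.trans hPH
  have hVH : V ≤ H := hF.le.trans (pCoreOf_le p H)
  have hcjH : ∀ h : G, h ∈ H → Y.map (MulAut.conj h).toMonoidHom ≤ H := fun h hh => by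
    rintro _ ⟨y, hy, rfl⟩
    exact H.mul_mem (H.mul_mem hh (hYH hy)) (H.inv_mem hh)
  set f := QuotientGroup.mk' (W.subgroupOf H) with hf
  have hfs : Function.Surjective f := QuotientGroup.mk'_surjective _
  haveI : (V.subgroupOf H).Normal := Subgroup.normal_subgroupOf_of_le_normalizer hF.nV
  haveI hnV : (bar H W V).Normal := Subgroup.Normal.map inferInstance f hfs
  have hVp : IsPGroup p ↥(bar H W V) :=
    (((isPGroup_pCoreOf p H).to_le hF.le).comap_subtype).map f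
  have hVne : bar H W V ≠ ⊥ := fun e => hF.lt.not_ge fun v hv =>
    mem_of_mk_eq_one (hVH hv) ((Subgroup.eq_bot_iff_forall _).1 e _ (mem_bar (hVH hv) hv))
  have hmin : ∀ N : Subgroup (↥H ⧸ W.subgroupOf H), N.Normal → N ≤ bar H W V → N = ⊥ ∨ N = bar H W V := by
    intro N hN hNV
    have hN' : H ≤ normalizer (((N.comap f).map H.subtype : Subgroup G) : Set G) := fun a ha =>
      mem_normalizer_of_conj_le (by
        rintro _ ⟨_, ⟨z, hz, rfl⟩, rfl⟩
        exact ⟨⟨a, ha⟩ * z * ⟨a, ha⟩⁻¹, (hN.comap f).conj_mem z hz ⟨a, ha⟩, rfl⟩)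
    have hWN : W ≤ (N.comap f).map H.subtype := fun w hw =>
      ⟨⟨w, hVH (hF.lt.le hw)⟩, by
        rw [SetLike.mem_coe, Subgroup.mem_comap,
          show f ⟨w, hVH (hF.lt.le hw)⟩ = 1 from (QuotientGroup.eq_one_iff _).2 (Subgroup.mem_subgroupOf.2 hw)]
        exact N.one_mem, rfl⟩
    have hNV' : (N.comap f).map H.subtype ≤ V := by
      rintro _ ⟨z, hz, rfl⟩
      obtain ⟨u, hu, hue⟩ := hNV hz
      have hw : (u : G)⁻¹ * z ∈ W := (QuotientGroup.eq.1 hue :)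
      have := V.mul_mem (show (u : G) ∈ V from hu) (hF.lt.le hw)
      rwa [mul_inv_cancel_left] at this
    rcases hF.chief _ hN' hWN hNV' with e | e
    · refine Or.inl ((Subgroup.eq_bot_iff_forall _).2 fun q hq => ?_)
      obtain ⟨z, rfl⟩ := hfs q
      exact (QuotientGroup.eq_one_iff _).2 (Subgroup.mem_subgroupOf.2 (e.le ⟨z, hq, rfl⟩))
    · refine Or.inr (le_antisymm hNV ?_)
      rintro _ ⟨⟨v, hvH⟩, hv, rfl⟩
      obtain ⟨z, hz, hzv⟩ := e.ge hv
      rwa [show (⟨v, hvH⟩ : ↥H) = z from Subtype.ext hzv.symm]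
  refine ⟨?_, hnV, hVp, hmin, ?_, bar_mono hYP, (hP.comap_subtype).map f, ?_, ?_, bar_mono hYL,
    mem_bar (hLH hgL) hgL, ?_, ?_, ?_⟩
  · haveI : Group.IsNilpotent ↥(bar H W V) := hVp.isNilpotent
    have hd : ⁅bar H W V, bar H W V⁆ < bar H W V := by
      have h1 := IsSolvable.commutator_lt_of_ne_bot (G := ↥(bar H W V)) (H := ⊤)
        (by rw [ne_eq, ← Subgroup.card_eq_one, Subgroup.card_top, Subgroup.card_eq_one]; exact hVne)
      have h2 := (Subgroup.map_subtype_lt_map_subtype).2 h1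
      rwa [Subgroup.map_commutator, ← MonoidHom.range_eq_map, Subgroup.range_subtype] at h2
    have hbot := (hmin _ inferInstance hd.le).resolve_right hd.ne
    intro a ha b hb
    exact commutatorElement_eq_one_iff_mul_comm.1
      ((Subgroup.eq_bot_iff_forall _).1 hbot _ (Subgroup.commutator_mem_commutator ha hb))
  · intro hc
    refine hF.noncentral (Subgroup.commutator_le.2 fun v hv h hh => ?_)
    refine mem_of_mk_eq_one (H.mul_mem (H.mul_mem (H.mul_mem (hVH hv) hh) (H.inv_mem (hVH hv))) (H.inv_mem hh)) ?_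
    have h1 := Subgroup.mem_center_iff.1 (hc (mem_bar (hVH hv) hv)) (f ⟨h, hh⟩)
    have : f (⁅(⟨v, hVH hv⟩ : ↥H), ⟨h, hh⟩⁆) = 1 := by
      rw [map_commutatorElement, commutatorElement_eq_one_iff_mul_comm]
      exact h1.symm
    exact this
  · rintro _ ⟨⟨u, huH⟩, hu, rfl⟩
    refine Subgroup.mem_centralizer_iff.2 ?_
    rintro _ ⟨⟨y, hyH⟩, hy, rfl⟩
    rw [← map_mul, ← map_mul]
    exact congrArg f (Subtype.ext (Subgroup.mem_centralizer_iff.1 (hPY hu) y hy))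
  · rintro _ ⟨⟨v, hvH⟩, hv, rfl⟩
    refine CfsgLib.LocalEven.mem_normalizer_of_conj_le ?_
    rintro _ ⟨_, ⟨⟨y, hyH⟩, hy, rfl⟩, rfl⟩
    rw [MulEquiv.coe_toMonoidHom, MulAut.conj_apply, ← map_inv, ← map_mul, ← map_mul]
    exact mem_bar (H.mul_mem (H.mul_mem hvH hyH) (H.inv_mem hvH))
      ((Subgroup.mem_normalizer_iff.1 (hDY (hF.le hv)) y).1 hy)
  · rw [← bar_conj hYH (hLH hgL), ← bar_sup hYH (hcjH g (hLH hgL))]
    exact bar_mono hLgen
  · rw [← bar_conj hYH (hLH hgL), ← bar_sup (hcjH g (hLH hgL)) hPH, hgen, bar, Subgroup.subgroupOf_self,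
      Subgroup.map_top_of_surjective _ hfs]
  · rw [show (f ⟨g, hLH hgL⟩)⁻¹ = f ⟨g⁻¹, H.inv_mem (hLH hgL)⟩ from (map_inv f _).symm,
      ← bar_conj hYH (H.inv_mem (hLH hgL)), ← bar_sup (hcjH _ (H.inv_mem (hLH hgL))) hPH, hgen', bar,
      Subgroup.subgroupOf_self, Subgroup.map_top_of_surjective _ hfs]

omit [Finite G] hp in
/-- Centralising the image of `V` means fixing the factor. -/
theorem fix_of_centralizer [(W.subgroupOf H).Normal] (hF : IsFactor p H V W) {x : G} (hxH : x ∈ H)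
    (h : QuotientGroup.mk' (W.subgroupOf H) ⟨x, hxH⟩ ∈ centralizer ((bar H W V) : Set (↥H ⧸ W.subgroupOf H)))
    {v : G} (hv : v ∈ V) : x * v * x⁻¹ * v⁻¹ ∈ W := by
  have hvH : v ∈ H := pCoreOf_le p H (hF.le hv)
  have h1 := Subgroup.mem_centralizer_iff.1 h _ (mem_bar hvH hv)
  refine mem_of_mk_eq_one (H.mul_mem (H.mul_mem (H.mul_mem hxH hvH) (H.inv_mem hxH)) (H.inv_mem hvH)) ?_
  have : QuotientGroup.mk' (W.subgroupOf H) ⁅(⟨x, hxH⟩ : ↥H), ⟨v, hvH⟩⁆ = 1 := by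
    rw [map_commutatorElement, commutatorElement_eq_one_iff_mul_comm]
    exact h1.symm
  exact this

omit [Finite G] hp in
theorem centralizer_of_fix [(W.subgroupOf H).Normal] {x : G} (hxH : x ∈ H)
    (h : ∀ v ∈ V, x * v * x⁻¹ * v⁻¹ ∈ W) :
    QuotientGroup.mk' (W.subgroupOf H) ⟨x, hxH⟩ ∈ centralizer ((bar H W V) : Set (↥H ⧸ W.subgroupOf H)) := by
  refine Subgroup.mem_centralizer_iff.2 ?_
  rintro _ ⟨⟨v, hvH⟩, hv, rfl⟩
  have : QuotientGroup.mk' (W.subgroupOf H) ⁅(⟨x, hxH⟩ : ↥H), ⟨v, hvH⟩⁆ = 1 :=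
    (QuotientGroup.eq_one_iff _).2 (Subgroup.mem_subgroupOf.2 (h v hv))
  rw [map_commutatorElement, commutatorElement_eq_one_iff_mul_comm] at this
  exact this.symm

end CfsgLib.LocalEven.AsymL
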