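import Cfsg.Agent.Lib.LocalEven.AsymL.Factor
import Cfsg.Agent.Lib.LocalEven.FrakMAsym
import Cfsg.Agent.Lib.Invol.BaerSuzuki

/-!
The asymmetric `L`-lemma: conjugates of `Y_M` under `L` which commute with `Y_M` are equal to it.
-/

set_option autoImplicit false

namespace CfsgLib.LocalEven.AsymL

open Subgroup Cfsg
open scoped commutatorElement

/-- The standing hypotheses. -/
structure Ctx {G : Type*} [Group G] (p : ℕ) (S : Sylow p G) (M H L : Subgroup G) : Prop where
  SM : (S : Subgroup G) ≤ M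
  frak : IsInFrakM p M
  asym : ¬ IsSymmetricIn (largestPReducedOf p M)
  pc : FrakM.ParabolicCharP p G
  hH : IsInFrakH p M H
  LH : L ≤ H
  YL : largestPReducedOf p M ≤ L
  YO : ¬ largestPReducedOf p M ≤ pCoreOf p L
  min : ∀ L' : Subgroup G, L' ≤ L → largestPReducedOf p M ≤ L' → ¬ largestPReducedOf p M ≤ pCoreOf p L' → L' = L

variable {G : Type*} [Group G] [Finite G] {p : ℕ} [hp : Fact p.Prime] {S : Sylow p G} {M H L : Subgroup G}

omit [Finite G] hp in
theorem inf_pCoreOf_le [Finite G] {A B : Subgroup G} :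
    pCoreOf p B ⊓ A ≤ pCoreOf p (B ⊓ A) := by
  refine le_pCoreOf (inf_le_inf_right _ (pCoreOf_le p B)) ((isPGroup_pCoreOf p B).to_le inf_le_left) fun x hx => ?_
  refine Subgroup.mem_normalizer_iff.2 fun z => and_congr
    (Subgroup.mem_normalizer_iff.1 (le_normalizer_pCoreOf p B hx.1) z)
    (Subgroup.mem_normalizer_iff.1 (Subgroup.le_normalizer hx.2) z)

namespace Ctx

variable (c : Ctx p S M H L)

include c

omit [Finite G] hp in
theorem PH : pCoreOf p M ≤ H := c.hH.2.1

omit hp in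
theorem pY : IsPGroup p ↥(largestPReducedOf p M) :=
  (isPGroup_pCoreOf p M).to_le FrakM.largest_le_pCoreOf

omit hp in
theorem YH : largestPReducedOf p M ≤ H := FrakM.largest_le_pCoreOf.trans c.PH

/-- A `p`-group normalising the `p`-subgroup `R` which contains the core normalises `Y`. -/
theorem core_le_normalizer : pCoreOf p H ≤ normalizer (largestPReducedOf p M : Set G) :=
  (le_sup_left : pCoreOf p H ≤ pCoreOf p H ⊔ pCoreOf p M).trans
    (FrakM.pGroup_le_normalizer_largest S c.SM c.frak c.asym c.pc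
      (IsPGroup.to_sup_of_normal_left' (isPGroup_pCoreOf p H) (isPGroup_pCoreOf p M)
        (c.PH.trans (le_normalizer_pCoreOf p H))) le_sup_right)

omit hp in
theorem lt_core {L' : Subgroup G} (h : L' < L) (hY : largestPReducedOf p M ≤ L') :
    largestPReducedOf p M ≤ pCoreOf p L' := by
  by_contra hn
  exact h.ne (c.min L' h.le hY hn)

theorem sup_eq : L ⊔ pCoreOf p M = H := by
  by_contra hne
  have h1 := c.hH.2.2.2 _ le_sup_right (lt_of_le_of_ne (sup_le c.LH c.PH) hne)
  refine c.YO ((le_inf h1 c.YL).trans (inf_pCoreOf_le.trans ?_))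
  rw [inf_of_le_right le_sup_left]

theorem gen_of_gen {g : G} (hg : g ∈ L)
    (h : L ≤ largestPReducedOf p M ⊔ (largestPReducedOf p M).map (MulAut.conj g).toMonoidHom) :
    (largestPReducedOf p M).map (MulAut.conj g).toMonoidHom ⊔ pCoreOf p M = H := by
  refine le_antisymm (sup_le ?_ c.PH) ?_
  · rintro _ ⟨y, hy, rfl⟩
    exact H.mul_mem (H.mul_mem (c.LH hg) (c.YH hy)) (H.inv_mem (c.LH hg))
  · rw [← c.sup_eq]
    exact sup_le (h.trans (sup_le (FrakM.largest_le_pCoreOf.trans le_sup_right) le_sup_left)) le_sup_right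

omit [Finite G] hp in
theorem gen_inv {g : G} (hg : g ∈ L)
    (h : L ≤ largestPReducedOf p M ⊔ (largestPReducedOf p M).map (MulAut.conj g).toMonoidHom) :
    L ≤ largestPReducedOf p M ⊔ (largestPReducedOf p M).map (MulAut.conj g⁻¹).toMonoidHom := by
  intro l hl
  have h3 : l ∈ cj g⁻¹ (largestPReducedOf p M ⊔ (largestPReducedOf p M).map (MulAut.conj g).toMonoidHom) :=
    mem_cj.2 (by simpa [mul_assoc] using h (L.mul_mem (L.mul_mem hg hl) (L.inv_mem hg)))
  rw [cj, Subgroup.map_sup] at h3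
  refine (sup_le le_sup_right ?_ : _ ≤ largestPReducedOf p M ⊔
    (largestPReducedOf p M).map (MulAut.conj g⁻¹).toMonoidHom) h3
  rintro _ ⟨_, ⟨y, hy, rfl⟩, rfl⟩
  exact Subgroup.mem_sup_left (by simpa [mul_assoc] using hy)

theorem setting {g : G} (hg : g ∈ L)
    (hgen : L ≤ largestPReducedOf p M ⊔ (largestPReducedOf p M).map (MulAut.conj g).toMonoidHom)
    {V W : Subgroup G} (hF : IsFactor p H V W) [(W.subgroupOf H).Normal] :
    Setting p (bar H W V) (bar H W (largestPReducedOf p M)) (bar H W (pCoreOf p M)) (bar H W L)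
      (QuotientGroup.mk' (W.subgroupOf H) ⟨g, c.LH hg⟩) :=
  AsymL.setting hF FrakM.largest_le_pCoreOf c.PH (isPGroup_pCoreOf p M) (FrakM.pCoreOf_le_centralizer M)
    c.core_le_normalizer c.LH c.YL hg hgen (c.gen_of_gen hg hgen)
    (c.gen_of_gen (L.inv_mem hg) (c.gen_inv hg hgen))

/-- Some conjugate of `Y` under `L` generates `L` together with `Y`. -/
theorem exists_pair : ∃ g ∈ L, ¬ IsPGroup p
    ↥(largestPReducedOf p M ⊔ (largestPReducedOf p M).map (MulAut.conj g).toMonoidHom) := by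
  by_contra hcon
  push Not at hcon
  obtain ⟨N, hN, hNp, hle⟩ := CfsgLib.Invol.baer_suzuki ((largestPReducedOf p M).subgroupOf L)
    c.pY.comap_subtype fun g => by
    refine ((hcon g g.2).comap_subtype (K := L)).to_le (sup_le (Subgroup.comap_mono le_sup_left) ?_)
    rintro _ ⟨y, hy, rfl⟩
    exact Subgroup.mem_subgroupOf.2 (Subgroup.mem_sup_right ⟨y, hy, rfl⟩)
  refine c.YO fun y hy => ?_
  exact ⟨⟨y, c.YL hy⟩, CfsgLib.Cores.le_pCore hNp (hle (Subgroup.mem_subgroupOf.2 hy)), rfl⟩

theorem exists_gen : ∃ g ∈ L,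
    L ≤ largestPReducedOf p M ⊔ (largestPReducedOf p M).map (MulAut.conj g).toMonoidHom := by
  obtain ⟨g, hg, hnp⟩ := c.exists_pair
  refine ⟨g, hg, ?_⟩
  set X := largestPReducedOf p M ⊔ (largestPReducedOf p M).map (MulAut.conj g).toMonoidHom with hX
  have hXL : X ≤ L := sup_le c.YL (by
    rintro _ ⟨y, hy, rfl⟩
    exact L.mul_mem (L.mul_mem hg (c.YL hy)) (L.inv_mem hg))
  refine (c.min X hXL le_sup_left fun hY => hnp ?_).ge
  exact IsPGroup.to_sup_of_normal_left' (isPGroup_pCoreOf p X) (c.pY.map _)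
    (fun y hy => le_normalizer_pCoreOf p X (Subgroup.mem_sup_right hy)) |>.to_le
      (sup_le (hY.trans le_sup_left) le_sup_right)

/-- Conjugates under `L` commuting with `Y` are equal to it. -/
theorem mem_normalizer_of_commute {m : G} (hm : m ∈ L)
    (hcomm : (largestPReducedOf p M).map (MulAut.conj m).toMonoidHom ≤
      centralizer (largestPReducedOf p M : Set G)) :
    m ∈ normalizer (largestPReducedOf p M : Set G) := by
  obtain ⟨g, hg, hgen⟩ := c.exists_gen
  set P := pCoreOf p M with hP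
  set X := P ⊔ P.map (MulAut.conj m).toMonoidHom with hX
  have hmH := c.LH hm
  have hPmH : P.map (MulAut.conj m).toMonoidHom ≤ H := by
    rintro _ ⟨y, hy, rfl⟩
    exact H.mul_mem (H.mul_mem hmH (c.PH hy)) (H.inv_mem hmH)
  have hXH : X ≤ H := sup_le c.PH hPmH
  have hXp : IsPGroup p ↥X := by
    refine isPGroup_of_forall_coprime fun x hx hxo => eq_one_of_fixes c.hH.1 (hXH hx) hxo fun V W hF v hv => ?_
    haveI : (W.subgroupOf H).Normal := Subgroup.normal_subgroupOf_of_le_normalizer hF.nW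
    have hs := c.setting hg hgen hF
    have hxmem : QuotientGroup.mk' (W.subgroupOf H) ⟨x, hXH hx⟩ ∈
        bar H W P ⊔ cj (QuotientGroup.mk' (W.subgroupOf H) ⟨m, hmH⟩) (bar H W P) := by
      rw [← bar_conj c.PH hmH, ← bar_sup c.PH hPmH]
      exact mem_bar (hXH hx) hx
    obtain ⟨k, hk⟩ := hs.pow_mem_centralizer (mem_bar hmH hm) (by
      rw [← bar_conj c.YH hmH]
      rintro _ ⟨⟨a, ha⟩, haY, rfl⟩ _ ⟨⟨b, hb⟩, hbY, rfl⟩
      rw [← map_mul, ← map_mul]
      exact congrArg _ (Subtype.ext (Subgroup.mem_centralizer_iff.1 (hcomm haY) b hbY).symm)) hxmem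
    refine fix_of_centralizer hF (hXH hx) ?_ hv
    have hco : (orderOf (QuotientGroup.mk' (W.subgroupOf H) ⟨x, hXH hx⟩)).Coprime (p ^ k) := by
      refine Nat.Coprime.pow_right k (hxo.coprime_dvd_left ?_)
      have := orderOf_map_dvd (QuotientGroup.mk' (W.subgroupOf H)) (⟨x, hXH hx⟩ : ↥H)
      rwa [Subgroup.orderOf_mk] at this
    obtain ⟨j, hj⟩ := exists_pow_eq_self_of_coprime hco.symm
    rw [← hj]
    exact Subgroup.pow_mem _ hk j
  have hXY := FrakM.pGroup_le_normalizer_largest S c.SM c.frak c.asym c.pc hXp le_sup_left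
  refine FrakM.mem_normalizer_of_adj S c.SM c.frak c.asym c.pc ⟨X, hXp, ?_, le_sup_right, ?_, ?_⟩
  · rw [WC.map_conj_one]
    exact le_sup_left
  · rwa [WC.map_conj_one]
  · have h1 : P ≤ X.map (MulAut.conj m⁻¹).toMonoidHom := by
      have h2 : P.map (MulAut.conj m).toMonoidHom ≤ X := le_sup_right
      replace h2 := Subgroup.map_mono (f := (MulAut.conj m⁻¹).toMonoidHom) h2
      rwa [WC.map_conj_inv_map] at h2
    have h3 := (Subgroup.map_mono (f := (MulAut.conj m).toMonoidHom)
      (FrakM.pGroup_le_normalizer_largest S c.SM c.frak c.asym c.pc (hXp.map _) h1)).trans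
      (Subgroup.le_normalizer_map _)
    rwa [WC.map_conj_map, mul_inv_cancel, WC.map_conj_one] at h3

theorem mem_normalizer_of_mutual {m : G} (hm : m ∈ L)
    (h1 : (largestPReducedOf p M).map (MulAut.conj m).toMonoidHom ≤ normalizer (largestPReducedOf p M : Set G))
    (h2 : largestPReducedOf p M ≤
      normalizer ((largestPReducedOf p M).map (MulAut.conj m).toMonoidHom : Set G)) :
    m ∈ normalizer (largestPReducedOf p M : Set G) := by
  refine c.mem_normalizer_of_commute hm ?_
  have h := FrakM.commute_of_normalize c.asym m 1 (by rwa [WC.map_conj_one]) (by rwa [WC.map_conj_one])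
  rwa [WC.map_conj_one] at h

/-- `p`-subgroups of `L` containing `Y` normalise it. -/
theorem pGroup_le_normalizer {R : Subgroup G} (hR : IsPGroup p ↥R) (hYR : largestPReducedOf p M ≤ R)
    (hRL : R ≤ L) : R ≤ normalizer (largestPReducedOf p M : Set G) := by
  set R₁ := R ⊓ normalizer (largestPReducedOf p M : Set G) with hR₁
  have hY₁ : largestPReducedOf p M ≤ R₁ := le_inf hYR Subgroup.le_normalizer
  refine (eq_of_inf_normalizer_le (H := R₁) hR inf_le_left fun x hx => ?_).ge.trans inf_le_right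
  have he : R₁.map (MulAut.conj x).toMonoidHom = R₁ := WC.map_conj_eq_of_mem hx.2
  refine Subgroup.mem_inf.2 ⟨hx.1, c.mem_normalizer_of_mutual (hRL hx.1) ?_ ?_⟩
  · exact ((Subgroup.map_mono hY₁).trans he.le).trans inf_le_right
  · exact hY₁.trans (he.ge.trans ((Subgroup.map_mono inf_le_right).trans (Subgroup.le_normalizer_map _)))

theorem conj_pGroup_le_normalizer {R : Subgroup G} (hR : IsPGroup p ↥R) {x : G} (hx : x ∈ L)
    (hYR : (largestPReducedOf p M).map (MulAut.conj x).toMonoidHom ≤ R) (hRL : R ≤ L) :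
    R ≤ normalizer ((largestPReducedOf p M).map (MulAut.conj x).toMonoidHom : Set G) := by
  have h1 := c.pGroup_le_normalizer (hR.map (MulAut.conj x⁻¹).toMonoidHom) ?_ ?_
  · have h2 := (Subgroup.map_mono (f := (MulAut.conj x).toMonoidHom) h1).trans (Subgroup.le_normalizer_map _)
    rwa [WC.map_conj_map, mul_inv_cancel, WC.map_conj_one] at h2
  · have h2 := Subgroup.map_mono (f := (MulAut.conj x⁻¹).toMonoidHom) hYR
    rwa [WC.map_conj_inv_map] at h2
  · rintro _ ⟨r, hr, rfl⟩
    exact L.mul_mem (L.mul_mem (L.inv_mem hx) (hRL hr)) (L.inv_mem (L.inv_mem hx))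

theorem mem_normalizer_of_common {m : G} (hm : m ∈ L) {R : Subgroup G} (hR : IsPGroup p ↥R) (hRL : R ≤ L)
    (hY : largestPReducedOf p M ≤ R) (hYm : (largestPReducedOf p M).map (MulAut.conj m).toMonoidHom ≤ R) :
    m ∈ normalizer (largestPReducedOf p M : Set G) :=
  c.mem_normalizer_of_mutual hm (hYm.trans (c.pGroup_le_normalizer hR hY hRL))
    (hY.trans (c.conj_pGroup_le_normalizer hR hm hYm hRL))

/-- `N_L(Y)` contains every proper subgroup of `L` over `Y`. -/
theorem le_normalizer_of_lt {X : Subgroup G} (hYX : largestPReducedOf p M ≤ X) (hX : X < L) :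
    X ≤ normalizer (largestPReducedOf p M : Set G) := fun x hx => by
  have hO := c.lt_core hX hYX
  refine c.mem_normalizer_of_common (hX.le hx) (isPGroup_pCoreOf p X) ((pCoreOf_le p X).trans hX.le) hO ?_
  exact (Subgroup.map_mono hO).trans (WC.map_conj_eq_of_mem (le_normalizer_pCoreOf p X hx)).le

theorem gen_of_notMem {h : G} (hh : h ∈ L) (hn : h ∉ normalizer (largestPReducedOf p M : Set G)) :
    L ≤ largestPReducedOf p M ⊔ (largestPReducedOf p M).map (MulAut.conj h).toMonoidHom := by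
  set X := largestPReducedOf p M ⊔ (largestPReducedOf p M).map (MulAut.conj h).toMonoidHom with hX
  have hXL : X ≤ L := sup_le c.YL (by
    rintro _ ⟨y, hy, rfl⟩
    exact L.mul_mem (L.mul_mem hh (c.YL hy)) (L.inv_mem hh))
  rcases eq_or_lt_of_le hXL with he | hlt
  · exact he.ge
  · exact absurd (c.mem_normalizer_of_common hh
      (IsPGroup.to_sup_of_normal_left' c.pY (c.pY.map _)
        (le_sup_right.trans (c.le_normalizer_of_lt le_sup_left hlt))) hXL le_sup_left le_sup_right) hn

theorem core_L_le_normalizer : pCoreOf p L ≤ normalizer (largestPReducedOf p M : Set G) :=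
  (le_sup_left : pCoreOf p L ≤ pCoreOf p L ⊔ largestPReducedOf p M).trans
    (c.pGroup_le_normalizer (IsPGroup.to_sup_of_normal_left' (isPGroup_pCoreOf p L) c.pY
      (c.YL.trans (le_normalizer_pCoreOf p L))) le_sup_right (sup_le (pCoreOf_le p L) c.YL))

theorem inf_core_le : pCoreOf p L ⊓ largestPReducedOf p M ≤ pCoreOf p H := by
  obtain ⟨g, hg, hgen⟩ := c.exists_gen
  rintro y ⟨hyL, hyY⟩
  refine mem_pCoreOf_of_fixes c.hH.1 (c.YH hyY) fun V W hF v hv => ?_
  haveI : (W.subgroupOf H).Normal := Subgroup.normal_subgroupOf_of_le_normalizer hF.nW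
  have hs := c.setting hg hgen hF
  refine fix_of_centralizer hF (c.YH hyY) (hs.fixes_of_normalizing (mem_bar (c.YH hyY) hyY) ?_) hv
  have hyg : y ∈ normalizer ((largestPReducedOf p M).map (MulAut.conj g).toMonoidHom : Set G) := by
    have h1 := (Subgroup.map_mono (f := (MulAut.conj g).toMonoidHom) c.core_L_le_normalizer).trans
      (Subgroup.le_normalizer_map _)
    rw [WC.map_conj_eq_of_mem (le_normalizer_pCoreOf p L hg)] at h1
    exact h1 hyL
  rw [← bar_conj c.YH (c.LH hg)]
  refine mem_normalizer_of_conj_le ?_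
  rintro _ ⟨_, ⟨⟨b, hb⟩, hbY, rfl⟩, rfl⟩
  rw [MulEquiv.coe_toMonoidHom, MulAut.conj_apply, ← map_inv, ← map_mul, ← map_mul]
  exact mem_bar (H.mul_mem (H.mul_mem (c.YH hyY) hb) (H.inv_mem (c.YH hyY)))
    ((Subgroup.mem_normalizer_iff.1 hyg b).1 hbY)

end Ctx

end CfsgLib.LocalEven.AsymL
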