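import Cfsg.Agent.Lib.LocalEven.CharP
import Cfsg.Agent.Lib.PGroup.Basic

/-!
The linear algebra of the asymmetric `L`-lemma: a minimal normal `p`-subgroup `V` of a group
generated by a conjugate of `Y` and a `p`-subgroup `P` centralising `Y`.
-/

set_option autoImplicit false

namespace CfsgLib.LocalEven.AsymL

open Subgroup
open scoped commutatorElement

variable {K : Type*} [Group K]

/-- The conjugate of a subgroup. -/
abbrev cj (g : K) (Y : Subgroup K) : Subgroup K := Y.map (MulAut.conj g).toMonoidHom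

theorem mem_cj {g : K} {Y : Subgroup K} {x : K} : x ∈ cj g Y ↔ g⁻¹ * x * g ∈ Y := by
  constructor
  · rintro ⟨y, hy, rfl⟩
    show g⁻¹ * (g * y * g⁻¹) * g ∈ Y
    simpa [mul_assoc] using hy
  · exact fun h => ⟨_, h, by simp [mul_assoc]⟩

theorem conj_mem_cj {g : K} {Y : Subgroup K} {y : K} (hy : y ∈ Y) : g * y * g⁻¹ ∈ cj g Y := ⟨y, hy, rfl⟩

theorem sup_elim {A B : Subgroup K} {V : Subgroup K} (hab : ∀ x ∈ V, ∀ y ∈ V, x * y = y * x)
    (hA : A ≤ V) (hB : B ≤ V) {x : K} (hx : x ∈ A ⊔ B) : ∃ a ∈ A, ∃ b ∈ B, x = a * b := by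
  refine Subgroup.closure_induction (p := fun x _ => ∃ a ∈ A, ∃ b ∈ B, x = a * b) ?_ ?_ ?_ ?_
    (Subgroup.sup_eq_closure A B ▸ hx)
  · rintro y (hy | hy)
    · exact ⟨y, hy, 1, B.one_mem, (mul_one y).symm⟩
    · exact ⟨1, A.one_mem, y, hy, (one_mul y).symm⟩
  · exact ⟨1, A.one_mem, 1, B.one_mem, (mul_one 1).symm⟩
  · rintro _ _ _ _ ⟨a, ha, b, hb, rfl⟩ ⟨a', ha', b', hb', rfl⟩
    refine ⟨a * a', A.mul_mem ha ha', b * b', B.mul_mem hb hb', ?_⟩
    calc a * b * (a' * b') = a * (b * a') * b' := by group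
      _ = a * (a' * b) * b' := by rw [hab _ (hB hb) _ (hA ha')]
      _ = a * a' * (b * b') := by group
  · rintro _ _ ⟨a, ha, b, hb, rfl⟩
    exact ⟨a⁻¹, A.inv_mem ha, b⁻¹, B.inv_mem hb, by
      rw [mul_inv_rev, hab _ (V.inv_mem (hB hb)) _ (V.inv_mem (hA ha))]⟩

/-- A `p`-group normalising a nontrivial `p`-group fixes a nontrivial element of it. -/
theorem exists_fixed [Finite K] {p : ℕ} [Fact p.Prime] {U V : Subgroup K} (hU : IsPGroup p ↥U)
    (hV : IsPGroup p ↥V) (hUV : U ≤ normalizer (V : Set K)) (hV1 : V ≠ ⊥) :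
    ∃ x ∈ V, x ≠ 1 ∧ x ∈ centralizer (U : Set K) := by
  have hR : IsPGroup p ↥(U ⊔ V) := IsPGroup.to_sup_of_normal_right' hU hV hUV
  haveI : Group.IsNilpotent ↥(U ⊔ V) := hR.isNilpotent
  haveI : (V.subgroupOf (U ⊔ V)).Normal :=
    Subgroup.normal_subgroupOf_of_le_normalizer (sup_le hUV Subgroup.le_normalizer)
  have hne : V.subgroupOf (U ⊔ V) ≠ ⊥ := fun h => hV1 (by
    rw [← Subgroup.map_subgroupOf_eq_of_le (le_sup_right : V ≤ U ⊔ V), h, Subgroup.map_bot])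
  haveI : Nontrivial ↥(V.subgroupOf (U ⊔ V)) := (Subgroup.nontrivial_iff_ne_bot _).2 hne
  have hne' := CfsgLib.PGroup.inf_center_ne_bot hR _ hne
  obtain ⟨⟨x, hx⟩, hx1⟩ := Subgroup.ne_bot_iff_exists_ne_one.1 hne'
  refine ⟨x, hx.1, fun h => hx1 (Subtype.ext (Subtype.ext h)), Subgroup.mem_centralizer_iff.2 fun u hu => ?_⟩
  exact congrArg Subtype.val (Subgroup.mem_center_iff.1 hx.2 ⟨u, Subgroup.mem_sup_left hu⟩)

/-- The hypotheses on one chief factor. -/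
structure Setting (p : ℕ) (V Y P L : Subgroup K) (g : K) : Prop where
  ab : ∀ x ∈ V, ∀ y ∈ V, x * y = y * x
  nV : V.Normal
  pV : IsPGroup p ↥V
  min : ∀ N : Subgroup K, N.Normal → N ≤ V → N = ⊥ ∨ N = V
  noncentral : ¬ V ≤ center K
  YP : Y ≤ P
  pP : IsPGroup p ↥P
  PY : P ≤ centralizer (Y : Set K)
  VY : V ≤ normalizer (Y : Set K)
  YL : Y ≤ L
  gL : g ∈ L
  Lgen : L ≤ Y ⊔ cj g Y
  gen : cj g Y ⊔ P = ⊤
  gen' : cj g⁻¹ Y ⊔ P = ⊤

variable {p : ℕ} {V Y P L : Subgroup K} {g : K}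

namespace Setting

variable (h : Setting p V Y P L g)

include h

theorem comm_le : ⁅V, Y⁆ ≤ V ⊓ Y :=
  haveI := h.nV
  le_inf (Subgroup.commutator_le_left V Y) (Subgroup.le_normalizer_iff_commutator_le_right.1 h.VY)

theorem comm_le_fix : ⁅V, Y⁆ ≤ V ⊓ centralizer (Y : Set K) :=
  le_inf (h.comm_le.trans inf_le_left) (h.comm_le.trans (inf_le_right.trans (h.YP.trans h.PY)))

theorem P_fix {a : K} (ha : a ∈ ⁅V, Y⁆) {x : K} (hx : x ∈ P) : x * a = a * x :=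
  (Subgroup.mem_centralizer_iff.1 (h.PY hx) a (h.comm_le ha).2).symm

theorem commP_le : ⁅V, P⁆ ≤ V ⊓ centralizer (Y : Set K) := by
  haveI := h.nV
  refine le_inf (Subgroup.commutator_le_left V P) ?_
  rw [← Subgroup.commutator_eq_bot_iff_le_centralizer, Subgroup.commutator_comm V P]
  refine Subgroup.commutator_commutator_eq_bot_of_rotate ?_ ?_
  · rw [Subgroup.commutator_eq_bot_iff_le_centralizer]
    intro a ha
    exact Subgroup.mem_centralizer_iff.2 fun x hx => h.P_fix ha hx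
  · rw [Subgroup.commutator_comm Y P, (Subgroup.commutator_eq_bot_iff_le_centralizer).2 h.PY,
      Subgroup.commutator_bot_left]

theorem fix_bot {Z : Subgroup K} (hZP : cj g Y ⊔ P = ⊤ ∧ Z = cj g Y ∨ cj g⁻¹ Y ⊔ P = ⊤ ∧ Z = cj g⁻¹ Y)
    {x : K} (hxV : x ∈ V) (hxP : ∀ u ∈ P, u * x = x * u) (hxZ : x ∈ centralizer (Z : Set K)) : x = 1 := by
  have hxc : x ∈ center K := by
    refine Subgroup.mem_center_iff.2 fun k => ?_
    have hle : (⊤ : Subgroup K) ≤ centralizer {x} := by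
      rcases hZP with ⟨h1, rfl⟩ | ⟨h1, rfl⟩ <;> rw [← h1] <;> refine sup_le (fun z hz => ?_) (fun u hu => ?_)
      all_goals rw [Subgroup.mem_centralizer_singleton_iff]
      · exact Subgroup.mem_centralizer_iff.1 hxZ z hz
      · exact hxP u hu
      · exact Subgroup.mem_centralizer_iff.1 hxZ z hz
      · exact hxP u hu
    exact Subgroup.mem_centralizer_singleton_iff.1 (hle (Subgroup.mem_top k))
  haveI := h.nV
  rcases h.min (V ⊓ center K) inferInstance inf_le_left with h0 | h0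
  · exact (Subgroup.eq_bot_iff_forall _).1 h0 x ⟨hxV, hxc⟩
  · exact absurd (h0 ▸ inf_le_right) h.noncentral

theorem cj_V (m : K) : cj m V = V := by
  ext x
  rw [mem_cj]
  exact ⟨fun hx => by simpa [mul_assoc] using h.nV.conj_mem _ hx m, fun hx => by simpa using h.nV.conj_mem _ hx m⁻¹⟩

theorem cj_comm (m : K) : cj m ⁅V, Y⁆ = ⁅V, cj m Y⁆ := by
  show (⁅V, Y⁆).map _ = _
  rw [Subgroup.map_commutator, show V.map (MulAut.conj m).toMonoidHom = V from h.cj_V m]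

theorem fix_inf_comm {c : K} (hcV : c ∈ V) (hc : c ∈ centralizer (Y : Set K))
    (hca : c ∈ ⁅V, cj g Y⁆) : c = 1 := by
  rw [← h.cj_comm, mem_cj] at hca
  have h1 : g⁻¹ * c * g ∈ centralizer ((cj g⁻¹ Y) : Set K) := by
    refine Subgroup.mem_centralizer_iff.2 ?_
    rintro _ ⟨y, hy, rfl⟩
    show g⁻¹ * y * g⁻¹⁻¹ * (g⁻¹ * c * g) = g⁻¹ * c * g * (g⁻¹ * y * g⁻¹⁻¹)
    calc g⁻¹ * y * g⁻¹⁻¹ * (g⁻¹ * c * g) = g⁻¹ * (y * c) * g := by group
      _ = g⁻¹ * (c * y) * g := by rw [Subgroup.mem_centralizer_iff.1 hc y hy]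
      _ = _ := by group
  have h2 := h.fix_bot (Or.inr ⟨h.gen', rfl⟩) (h.comm_le hca).1 (fun u hu => h.P_fix hca hu) h1
  calc c = g * (g⁻¹ * c * g) * g⁻¹ := by group
    _ = 1 := by rw [h2]; group

variable [Finite K] [Fact p.Prime]

theorem decomp {v : K} (hv : v ∈ V) :
    ∃ c ∈ V ⊓ centralizer (Y : Set K), ∃ b ∈ ⁅V, cj g Y⁆, v = c * b := by
  haveI := h.nV
  have hbV : ⁅V, cj g Y⁆ ≤ V := Subgroup.commutator_le_left V _
  set N := (V ⊓ centralizer (Y : Set K)) ⊔ ⁅V, cj g Y⁆ with hN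
  have hNV : N ≤ V := sup_le inf_le_left hbV
  have hstab : ∀ k : K, ∀ n ∈ N, k * n * k⁻¹ ∈ N := by
    have hgen : ∀ Z : Subgroup K, ⁅V, Z⁆ ≤ N → Z ≤ normalizer (N : Set K) := fun Z hZ =>
      Subgroup.le_normalizer_iff_commutator_le_left.2
        ((Subgroup.commutator_mono hNV le_rfl).trans hZ)
    intro k n hn
    have hk : k ∈ normalizer (N : Set K) := sup_le (hgen _ le_sup_right) (hgen _ (h.commP_le.trans le_sup_left))
      (h.gen ▸ Subgroup.mem_top k)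
    exact (Subgroup.mem_normalizer_iff.1 hk n).1 hn
  have hV1 : V ≠ ⊥ := fun e => h.noncentral (e ▸ bot_le)
  have hNe : N = V := by
    refine (h.min N ⟨fun n hn k => hstab k n hn⟩ hNV).resolve_left fun e => ?_
    obtain ⟨x, hxV, hx1, hxc⟩ := exists_fixed (h.pP.to_le h.YP) h.pV
      (by rw [(Subgroup.normalizer_eq_top_iff).2 h.nV]; exact le_top) hV1
    exact hx1 ((Subgroup.eq_bot_iff_forall _).1 e x (Subgroup.mem_sup_left ⟨hxV, hxc⟩))
  exact sup_elim h.ab inf_le_left hbV (hNe.symm.le hv)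

omit [Finite K] [Fact p.Prime] in
theorem inf_sum {c : K} (hc : c ∈ V ⊓ centralizer (Y : Set K)) (hc' : c ∈ ⁅V, Y⁆ ⊔ ⁅V, cj g Y⁆) :
    c ∈ ⁅V, Y⁆ := by
  haveI := h.nV
  obtain ⟨a, ha, b, hb, rfl⟩ := sup_elim h.ab (Subgroup.commutator_le_left V Y) (Subgroup.commutator_le_left V _) hc'
  have hb' := mul_mem (inv_mem (h.comm_le_fix ha)) hc
  rw [inv_mul_cancel_left] at hb'
  rw [h.fix_inf_comm hb'.1 hb'.2 hb, mul_one]
  exact ha

/-- The fixed points of `Y` are `[V, Y]` times fixed points of `L`. -/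
theorem fix_decomp {c : K} (hc : c ∈ V ⊓ centralizer (Y : Set K)) :
    ∃ a ∈ ⁅V, Y⁆, ∃ c₀ ∈ V ⊓ centralizer (L : Set K), c = a * c₀ := by
  haveI := h.nV
  -- decompose `g⁻¹ c g` for the conjugate by `g⁻¹`
  have hsym : ∃ a ∈ ⁅V, Y⁆, ∃ c' ∈ V ⊓ centralizer ((cj g Y) : Set K), c = a * c' := by
    have hN : ∀ v ∈ V, v ∈ ⁅V, Y⁆ ⊔ (V ⊓ centralizer ((cj g Y) : Set K)) := by
      have hLgen : L ≤ Y ⊔ cj g⁻¹ Y := by
        intro l hl
        have h2 := h.Lgen (L.mul_mem (L.mul_mem h.gL hl) (L.inv_mem h.gL))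
        have h3 : l ∈ cj g⁻¹ (Y ⊔ cj g Y) := by
          rw [mem_cj]; simpa [mul_assoc] using h2
        rw [cj, Subgroup.map_sup] at h3
        refine (sup_le le_sup_right ?_ : _ ≤ Y ⊔ cj g⁻¹ Y) h3
        rintro _ ⟨_, ⟨y, hy, rfl⟩, rfl⟩
        exact Subgroup.mem_sup_left (by simpa [mul_assoc] using hy)
      have hgen2 : cj g⁻¹⁻¹ Y ⊔ P = ⊤ := (inv_inv g).symm ▸ h.gen
      have h' : Setting p V Y P L g⁻¹ :=
        ⟨h.ab, h.nV, h.pV, h.min, h.noncentral, h.YP, h.pP, h.PY, h.VY, h.YL, inv_mem h.gL, hLgen,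
          h.gen', hgen2⟩
      intro v hv
      obtain ⟨c, hc, b, hb, he⟩ := h'.decomp (v := g⁻¹ * v * g) (by simpa using h.nV.conj_mem v hv g⁻¹)
      have hv' : v = (g * b * g⁻¹) * (g * c * g⁻¹) := by
        calc v = g * (g⁻¹ * v * g) * g⁻¹ := by group
          _ = g * (b * c) * g⁻¹ := by
            rw [he, h.ab _ hc.1 _ (Subgroup.commutator_le_left V _ hb)]
          _ = _ := by group
      rw [hv']
      refine Subgroup.mul_mem_sup ?_ ⟨h.nV.conj_mem _ hc.1 g, Subgroup.mem_centralizer_iff.2 ?_⟩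
      · rw [← h.cj_comm, mem_cj] at hb
        simpa [mul_assoc] using hb
      · rintro _ ⟨y, hy, rfl⟩
        show g * y * g⁻¹ * (g * c * g⁻¹) = g * c * g⁻¹ * (g * y * g⁻¹)
        calc g * y * g⁻¹ * (g * c * g⁻¹) = g * (y * c) * g⁻¹ := by group
          _ = g * (c * y) * g⁻¹ := by rw [Subgroup.mem_centralizer_iff.1 hc.2 y hy]
          _ = _ := by group
    exact sup_elim h.ab (Subgroup.commutator_le_left V Y) inf_le_left (hN c hc.1)
  obtain ⟨a, ha, c', hc', rfl⟩ := hsym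
  refine ⟨a, ha, c', ⟨hc'.1, Subgroup.mem_centralizer_iff.2 fun l hl => ?_⟩, rfl⟩
  have hc'Y := mul_mem (inv_mem (h.comm_le_fix ha)) hc
  rw [inv_mul_cancel_left] at hc'Y
  have hle : Y ⊔ cj g Y ≤ centralizer {c'} := by
    refine sup_le (fun z hz => ?_) (fun z hz => ?_) <;> rw [Subgroup.mem_centralizer_singleton_iff]
    · exact Subgroup.mem_centralizer_iff.1 hc'Y.2 z hz
    · exact Subgroup.mem_centralizer_iff.1 hc'.2 z hz
  exact Subgroup.mem_centralizer_singleton_iff.1 (hle (h.Lgen hl))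

omit [Finite K] [Fact p.Prime] in
theorem comm_sum_normal {m : K} (hm : m ∈ L) {a : K} (ha : a ∈ ⁅V, Y⁆) :
    m * a * m⁻¹ ∈ ⁅V, Y⁆ ⊔ ⁅V, cj g Y⁆ := by
  haveI := h.nV
  set N := ⁅V, Y⁆ ⊔ ⁅V, cj g Y⁆
  have hNV : N ≤ V := sup_le (Subgroup.commutator_le_left V Y) (Subgroup.commutator_le_left V _)
  have hm' : m ∈ normalizer (N : Set K) :=
    (sup_le (Subgroup.le_normalizer_iff_commutator_le_left.2
        ((Subgroup.commutator_mono hNV le_rfl).trans le_sup_left))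
      (Subgroup.le_normalizer_iff_commutator_le_left.2
        ((Subgroup.commutator_mono hNV le_rfl).trans le_sup_right))) (h.Lgen hm)
  exact (Subgroup.mem_normalizer_iff.1 hm' a).1 (Subgroup.mem_sup_left ha)

section Conjugate

variable {m : K} (hm : m ∈ L) (hcomm : ∀ x ∈ cj m Y, ∀ y ∈ Y, x * y = y * x)

include hm hcomm

omit [Finite K] [Fact p.Prime] in
theorem conj_comm {a : K} (ha : a ∈ ⁅V, Y⁆) : m * a * m⁻¹ ∈ ⁅V, Y⁆ := by
  refine h.inf_sum ⟨h.nV.conj_mem a (h.comm_le ha).1 m, Subgroup.mem_centralizer_iff.2 fun y hy => ?_⟩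
    (h.comm_sum_normal hm ha)
  exact (hcomm _ (conj_mem_cj (h.comm_le ha).2) y hy).symm

theorem unconj_comm {a : K} (ha : a ∈ ⁅V, Y⁆) : m⁻¹ * a * m ∈ ⁅V, Y⁆ := by
  have he : cj m ⁅V, Y⁆ = ⁅V, Y⁆ := Subgroup.eq_of_le_of_card_ge (by
    rintro _ ⟨x, hx, rfl⟩
    exact h.conj_comm hm hcomm hx) (Subgroup.card_map_of_injective (MulAut.conj m).injective).ge
  rw [← he] at ha
  exact mem_cj.1 ha

theorem conj_fix {c : K} (hc : c ∈ V ⊓ centralizer (Y : Set K)) :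
    m * c * m⁻¹ * c⁻¹ ∈ ⁅V, Y⁆ := by
  obtain ⟨a, ha, c₀, hc₀, rfl⟩ := h.fix_decomp hc
  have h1 : m * c₀ * m⁻¹ = c₀ := mul_inv_eq_iff_eq_mul.2 (Subgroup.mem_centralizer_iff.1 hc₀.2 m hm)
  have : m * (a * c₀) * m⁻¹ * (a * c₀)⁻¹ = m * a * m⁻¹ * (m * c₀ * m⁻¹ * c₀⁻¹) * a⁻¹ := by group
  rw [this, h1, mul_inv_cancel, mul_one]
  exact mul_mem (h.conj_comm hm hcomm ha) (inv_mem ha)

theorem unconj_fix {c : K} (hc : c ∈ V ⊓ centralizer (Y : Set K)) :
    m⁻¹ * c * m * c⁻¹ ∈ ⁅V, Y⁆ := by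
  obtain ⟨a, ha, c₀, hc₀, rfl⟩ := h.fix_decomp hc
  have h1 : m⁻¹ * c₀ * m = c₀ := by
    rw [mul_assoc, ← Subgroup.mem_centralizer_iff.1 hc₀.2 m hm, inv_mul_cancel_left]
  have : m⁻¹ * (a * c₀) * m * (a * c₀)⁻¹ = m⁻¹ * a * m * (m⁻¹ * c₀ * m * c₀⁻¹) * a⁻¹ := by group
  rw [this, h1, mul_inv_cancel, mul_one]
  exact mul_mem (h.unconj_comm hm hcomm ha) (inv_mem ha)

/-- `P` and its conjugate act on `V` as a `p`-group. -/
theorem pow_mem_centralizer {x : K} (hx : x ∈ P ⊔ cj m P) :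
    ∃ k : ℕ, x ^ p ^ k ∈ centralizer (V : Set K) := by
  haveI := h.nV
  set A := ⁅V, Y⁆ with hA
  set C := V ⊓ centralizer (Y : Set K) with hC
  have hAC : A ≤ C := h.comm_le_fix
  have hAV : A ≤ V := hAC.trans inf_le_left
  have hCm : ∀ c ∈ C, m⁻¹ * c * m ∈ C ∧ m * c * m⁻¹ ∈ C := fun c hc => by
    constructor
    · have := mul_mem (hAC (h.unconj_fix hm hcomm hc)) hc
      rwa [inv_mul_cancel_right] at this
    · have := mul_mem (hAC (h.conj_fix hm hcomm hc)) hc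
      rwa [inv_mul_cancel_right] at this
  -- conjugation by `P` preserves `C`
  have hPC : ∀ π ∈ P, ∀ c ∈ C, π * c * π⁻¹ ∈ C := fun π hπ c hc =>
    ⟨h.nV.conj_mem c hc.1 π, Subgroup.mem_centralizer_iff.2 fun y hy => by
      have e1 : y * π = π * y := Subgroup.mem_centralizer_iff.1 (h.PY hπ) y hy
      have e2 : y * π⁻¹ = π⁻¹ * y := Subgroup.mem_centralizer_iff.1 (inv_mem (h.PY hπ)) y hy
      calc y * (π * c * π⁻¹) = (y * π) * c * π⁻¹ := by group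
        _ = π * (y * c) * π⁻¹ := by rw [e1]; group
        _ = π * c * (y * π⁻¹) := by rw [Subgroup.mem_centralizer_iff.1 hc.2 y hy]; group
        _ = π * c * π⁻¹ * y := by rw [e2]; group⟩
  let Good : K → Prop := fun x => (∀ a ∈ A, x * a * x⁻¹ = a) ∧ (∀ v ∈ V, x * v * x⁻¹ * v⁻¹ ∈ C) ∧
    ∃ π ∈ P, ∀ c ∈ C, x * c * x⁻¹ * (π * c * π⁻¹)⁻¹ ∈ A
  have hgmul : ∀ x y, Good x → Good y → Good (x * y) := by
    rintro x y ⟨hx1, hx2, π, hπ, hx3⟩ ⟨hy1, hy2, ρ, hρ, hy3⟩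
    refine ⟨fun a ha => ?_, fun v hv => ?_, π * ρ, mul_mem hπ hρ, fun c hc => ?_⟩
    · calc x * y * a * (x * y)⁻¹ = x * (y * a * y⁻¹) * x⁻¹ := by group
        _ = a := by rw [hy1 a ha, hx1 a ha]
    · have e : x * y * v * (x * y)⁻¹ * v⁻¹ =
          (x * (y * v * y⁻¹) * x⁻¹ * (y * v * y⁻¹)⁻¹) * (y * v * y⁻¹ * v⁻¹) := by group
      rw [e]
      exact mul_mem (hx2 _ (h.nV.conj_mem v hv y)) (hy2 v hv)
    · set b := y * c * y⁻¹ * (ρ * c * ρ⁻¹)⁻¹ with hb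
      have hbA : b ∈ A := hy3 c hc
      have e : x * y * c * (x * y)⁻¹ * (π * ρ * c * (π * ρ)⁻¹)⁻¹ =
          (x * b * x⁻¹) * (x * (ρ * c * ρ⁻¹) * x⁻¹ * (π * (ρ * c * ρ⁻¹) * π⁻¹)⁻¹) := by
        rw [hb]; group
      rw [e, hx1 b hbA]
      exact mul_mem hbA (hx3 _ (hPC ρ hρ c hc))
  have hgpow : ∀ (x : K) (j : ℕ), Good x → Good (x ^ (j + 1)) := by
    intro x j hx
    induction j with
    | zero => simpa using hx
    | succ j ih =>
      rw [pow_succ]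
      exact hgmul _ _ ih hx
  have hgP : ∀ π ∈ P, Good π := fun π hπ =>
    ⟨fun a ha => by rw [h.P_fix ha hπ, mul_inv_cancel_right], fun v hv => by
      have := h.commP_le (Subgroup.commutator_mem_commutator hv hπ)
      have := C.inv_mem this
      rwa [commutatorElement_def, show (v * π * v⁻¹ * π⁻¹)⁻¹ = π * v * π⁻¹ * v⁻¹ by group] at this,
      π, hπ, fun c _ => by rw [mul_inv_cancel]; exact one_mem _⟩
  have hgPm : ∀ π ∈ P, Good (m * π * m⁻¹) := fun π hπ => by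
    refine ⟨fun a ha => ?_, fun v hv => ?_, π, hπ, fun c hc => ?_⟩
    · calc m * π * m⁻¹ * a * (m * π * m⁻¹)⁻¹ = m * (π * (m⁻¹ * a * m) * π⁻¹) * m⁻¹ := by group
        _ = a := by rw [(hgP π hπ).1 _ (h.unconj_comm hm hcomm ha)]; group
    · have h1 := (hgP π hπ).2.1 (m⁻¹ * v * m) (by simpa using h.nV.conj_mem v hv m⁻¹)
      have h2 := (hCm _ h1).2
      rwa [show m * (π * (m⁻¹ * v * m) * π⁻¹ * (m⁻¹ * v * m)⁻¹) * m⁻¹ =
        m * π * m⁻¹ * v * (m * π * m⁻¹)⁻¹ * v⁻¹ by group] at h2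
    · set b := m⁻¹ * c * m * c⁻¹ with hb
      have hbA : b ∈ A := h.unconj_fix hm hcomm hc
      have e : m * π * m⁻¹ * c * (m * π * m⁻¹)⁻¹ * (π * c * π⁻¹)⁻¹ =
          (m * (π * b * π⁻¹) * m⁻¹) * (m * (π * c * π⁻¹) * m⁻¹ * (π * c * π⁻¹)⁻¹) := by
        rw [hb]; group
      rw [e, (hgP π hπ).1 b hbA]
      exact mul_mem (h.conj_comm hm hcomm hbA) (h.conj_fix hm hcomm (hPC π hπ c hc))
  have hpos : ∀ k, ∃ j, p ^ k = j + 1 := fun k =>
    ⟨p ^ k - 1, (Nat.sub_add_cancel (Nat.one_le_pow _ _ (Fact.out (p := p.Prime)).pos)).symm⟩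
  -- a power acts trivially on `C / A`
  obtain ⟨hx1, hx2, π, hπ, hx3⟩ := (show Good x from by
    let S : Submonoid K :=
      { carrier := {x | Good x}
        one_mem' := hgP 1 P.one_mem
        mul_mem' := fun {a b} => hgmul a b }
    have hmem : x ∈ Submonoid.closure ((P : Set K) ∪ (cj m P : Set K)) := by
      rw [← Subgroup.closure_toSubmonoid_of_finite, ← Subgroup.sup_eq_closure]
      exact hx
    refine (Submonoid.closure_le (S := S)).2 ?_ hmem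
    rintro y (hy | ⟨π, hπ, rfl⟩)
    · exact hgP y hy
    · exact hgPm π hπ)
  obtain ⟨e₀, he₀⟩ := h.pP ⟨π, hπ⟩
  have he₀' : π ^ p ^ e₀ = 1 := congrArg Subtype.val he₀
  obtain ⟨j₀, hj₀⟩ := hpos e₀
  have hpw : ∀ j : ℕ, ∀ c ∈ C, x ^ j * c * (x ^ j)⁻¹ * (π ^ j * c * (π ^ j)⁻¹)⁻¹ ∈ A := by
    intro j
    induction j with
    | zero => intro c _; simp
    | succ j ih =>
      intro c hc
      set b := x * c * x⁻¹ * (π * c * π⁻¹)⁻¹ with hb
      have hbA : b ∈ A := hx3 c hc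
      have hfix : x ^ j * b * (x ^ j)⁻¹ = b := by
        clear ih hb
        induction j with
        | zero => simp
        | succ i ih =>
          calc x ^ (i + 1) * b * (x ^ (i + 1))⁻¹ = x * (x ^ i * b * (x ^ i)⁻¹) * x⁻¹ := by rw [pow_succ']; group
            _ = b := by rw [ih, hx1 b hbA]
      have e : x ^ (j + 1) * c * (x ^ (j + 1))⁻¹ * (π ^ (j + 1) * c * (π ^ (j + 1))⁻¹)⁻¹ =
          (x ^ j * b * (x ^ j)⁻¹) *
            (x ^ j * (π * c * π⁻¹) * (x ^ j)⁻¹ * (π ^ j * (π * c * π⁻¹) * (π ^ j)⁻¹)⁻¹) := by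
        rw [hb, pow_succ, pow_succ]; group
      rw [e, hfix]
      exact mul_mem hbA (ih _ (hPC π hπ c hc))
  set y := x ^ p ^ e₀ with hy
  have hy1 : ∀ a ∈ A, y * a * y⁻¹ = a := by
    rw [hy, hj₀]
    exact (hgpow x j₀ ⟨hx1, hx2, π, hπ, hx3⟩).1
  have hy2 : ∀ v ∈ V, y * v * y⁻¹ * v⁻¹ ∈ C := by
    rw [hy, hj₀]
    exact (hgpow x j₀ ⟨hx1, hx2, π, hπ, hx3⟩).2.1
  have hy3 : ∀ c ∈ C, y * c * y⁻¹ * c⁻¹ ∈ A := fun c hc => by
    simpa [he₀'] using hpw (p ^ e₀) c hc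
  -- iterate along `A ≤ C ≤ V`
  obtain ⟨e₁, he₁⟩ := IsPGroup.iff_card.1 h.pV
  have hVexp : ∀ v ∈ V, v ^ p ^ e₁ = 1 := fun v hv => by
    rw [← he₁]
    exact congrArg Subtype.val (pow_card_eq_one' (x := (⟨v, hv⟩ : ↥V)))
  have step : ∀ (z : K) (W : Subgroup K), W ≤ V → (∀ w ∈ W, z * w * z⁻¹ = w) →
      ∀ v ∈ V, z * v * z⁻¹ * v⁻¹ ∈ W → z ^ p ^ e₁ * v * (z ^ p ^ e₁)⁻¹ = v := by
    intro z W hWV hfix v hv hd
    have key : ∀ j : ℕ, z ^ j * v * (z ^ j)⁻¹ = (z * v * z⁻¹ * v⁻¹) ^ j * v := by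
      intro j
      induction j with
      | zero => simp
      | succ j ih =>
        calc z ^ (j + 1) * v * (z ^ (j + 1))⁻¹ = z * (z ^ j * v * (z ^ j)⁻¹) * z⁻¹ := by rw [pow_succ']; group
          _ = (z * (z * v * z⁻¹ * v⁻¹) * z⁻¹) ^ j * (z * v * z⁻¹) := by rw [ih, conj_pow]; group
          _ = _ := by rw [hfix _ hd, pow_succ]; group
    rw [key, hVexp _ (hWV hd), one_mul]
  set z := y ^ p ^ e₁ with hz
  have hz1 : ∀ c ∈ C, z * c * z⁻¹ = c := fun c hc => step y A hAV hy1 c hc.1 (hy3 c hc)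
  have hz2 : ∀ v ∈ V, z * v * z⁻¹ * v⁻¹ ∈ C := by
    intro v hv
    have : ∀ j : ℕ, y ^ j * v * (y ^ j)⁻¹ * v⁻¹ ∈ C := by
      intro j
      induction j with
      | zero => simp
      | succ j ih =>
        rw [show y ^ (j + 1) * v * (y ^ (j + 1))⁻¹ * v⁻¹ =
          (y * (y ^ j * v * (y ^ j)⁻¹) * y⁻¹ * (y ^ j * v * (y ^ j)⁻¹)⁻¹) * (y ^ j * v * (y ^ j)⁻¹ * v⁻¹) by
          rw [pow_succ']; group]
        exact mul_mem (hy2 _ (h.nV.conj_mem v hv _)) ih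
    exact this _
  refine ⟨e₀ + e₁ + e₁, Subgroup.mem_centralizer_iff.2 fun v hv => ?_⟩
  rw [pow_add, pow_add, pow_mul, pow_mul, ← hy, ← hz]
  exact (mul_inv_eq_iff_eq_mul.1 (step z C inf_le_left hz1 v hv (hz2 v hv))).symm

end Conjugate

/-- An element of `L` normalising both `Y` and its conjugate by `g`, and centralised by `P`, acts trivially. -/
theorem fixes_of_normalizing {y : K} (hy : y ∈ Y) (hyg : y ∈ normalizer ((cj g Y) : Set K)) :
    y ∈ centralizer (V : Set K) := by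
  haveI := h.nV
  refine Subgroup.mem_centralizer_iff.2 fun v hv => ?_
  obtain ⟨c, hc, b, hb, rfl⟩ := h.decomp hv
  have hbV : b ∈ V := Subgroup.commutator_le_left V _ hb
  have h1 : y * b * y⁻¹ ∈ ⁅V, cj g Y⁆ := by
    have hV : V.map (MulAut.conj y).toMonoidHom = V := h.cj_V y
    have hY : (cj g Y).map (MulAut.conj y).toMonoidHom = cj g Y :=
      (Subgroup.mem_normalizer_iff_map_conj_eq).1 hyg
    have : y * b * y⁻¹ ∈ (⁅V, cj g Y⁆).map (MulAut.conj y).toMonoidHom := ⟨b, hb, rfl⟩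
    rwa [Subgroup.map_commutator, hV, hY] at this
  have hd : b * y * b⁻¹ * y⁻¹ ∈ ⁅V, Y⁆ := Subgroup.commutator_mem_commutator hbV hy
  have hd2 : b * y * b⁻¹ * y⁻¹ ∈ ⁅V, cj g Y⁆ := by
    rw [show b * y * b⁻¹ * y⁻¹ = b * (y * b * y⁻¹)⁻¹ by group]
    exact mul_mem hb (inv_mem h1)
  have hfix := h.fix_inf_comm (h.comm_le hd).1 (h.comm_le_fix hd).2 hd2
  have hby : b * y = y * b := commutatorElement_eq_one_iff_mul_comm.1 hfix
  have hcy : c * y = y * c := (Subgroup.mem_centralizer_iff.1 hc.2 y hy).symm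
  rw [mul_assoc, hby, ← mul_assoc, hcy, mul_assoc]

/-- A `p'`-element of `L` centralising `Y` and its conjugate acts trivially. -/
theorem fixes_of_central {c : K} (hcL : c ∈ L) (hcY : c ∈ centralizer (Y : Set K))
    (hcg : c ∈ centralizer ((cj g Y) : Set K)) : c ∈ centralizer (V : Set K) := by
  haveI := h.nV
  refine Subgroup.mem_centralizer_iff.2 fun v hv => ?_
  obtain ⟨u, hu, b, hb, rfl⟩ := h.decomp hv
  obtain ⟨a, ha, c₀, hc₀, rfl⟩ := h.fix_decomp hu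
  have e1 : a * c = c * a := Subgroup.mem_centralizer_iff.1 hcY a (h.comm_le ha).2
  have e2 : c₀ * c = c * c₀ := (Subgroup.mem_centralizer_iff.1 hc₀.2 c hcL).symm
  have e3 : b * c = c * b := by
    refine Subgroup.mem_centralizer_iff.1 hcg b ?_
    rw [← h.cj_comm, mem_cj] at hb
    exact mem_cj.2 (h.comm_le hb).2
  exact (((show Commute a c from e1).mul_left e2).mul_left e3).eq

theorem comm_eq_bot_absurd (hA : ⁅V, Y⁆ = ⊥) : False := by
  haveI := h.nV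
  obtain ⟨x, hxV, hx1, hxc⟩ := exists_fixed h.pP h.pV
    (by rw [(Subgroup.normalizer_eq_top_iff).2 h.nV]; exact le_top) (fun e => h.noncentral (e ▸ bot_le))
  refine hx1 (h.fix_bot (Or.inl ⟨h.gen, rfl⟩) hxV (fun u hu => Subgroup.mem_centralizer_iff.1 hxc u hu) ?_)
  have : ⁅V, cj g Y⁆ = ⊥ := by rw [← h.cj_comm, hA, cj, Subgroup.map_bot]
  exact (Subgroup.commutator_eq_bot_iff_le_centralizer.1 this) hxV

theorem not_fix_comm (hL : L ≤ centralizer ((⁅V, Y⁆ : Subgroup K) : Set K)) : False := by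
  refine h.comm_eq_bot_absurd ((Subgroup.eq_bot_iff_forall _).2 fun a ha => ?_)
  refine h.fix_bot (Or.inr ⟨h.gen', rfl⟩) (h.comm_le ha).1 (fun u hu => h.P_fix ha hu)
    (Subgroup.mem_centralizer_iff.2 ?_)
  rintro _ ⟨y, hy, rfl⟩
  exact (Subgroup.mem_centralizer_iff.1
    (hL (L.mul_mem (L.mul_mem (L.inv_mem h.gL) (h.YL hy)) (L.inv_mem (L.inv_mem h.gL)))) a ha).symm

theorem not_pGroup_action
    (hp' : ∀ x ∈ L, (orderOf x).Coprime p → x ∈ centralizer (V : Set K))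
    (hclo : ∀ N : Subgroup K, Y ≤ N → L ≤ normalizer (N : Set K) → L ≤ N) : False := by
  haveI := h.nV
  -- the elements of `L` acting as elements of `Y`
  set Cv := L ⊓ centralizer (V : Set K) with hCv
  have hCn : L ≤ normalizer (Cv : Set K) := by
    intro l hl
    refine Subgroup.mem_normalizer_iff.2 fun z => and_congr
      (Subgroup.mem_normalizer_iff.1 (Subgroup.le_normalizer hl) z) ?_
    refine Subgroup.mem_normalizer_iff.1 ?_ z
    have : (centralizer (V : Set K)).Normal := inferInstance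
    rw [(Subgroup.normalizer_eq_top_iff).2 this]
    exact Subgroup.mem_top l
  haveI : (Cv.subgroupOf L).Normal := Subgroup.normal_subgroupOf_of_le_normalizer hCn
  set π := QuotientGroup.mk' (Cv.subgroupOf L) with hπ
  have hpg : IsPGroup p (↥L ⧸ Cv.subgroupOf L) := by
    intro q
    obtain ⟨x, rfl⟩ := QuotientGroup.mk'_surjective _ q
    refine ⟨(orderOf x).factorization p, ?_⟩
    rw [← map_pow]
    refine (QuotientGroup.eq_one_iff _).2 (Subgroup.mem_subgroupOf.2 ⟨Subtype.prop _, hp' _ (Subtype.prop _) ?_⟩)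
    rw [Subgroup.orderOf_coe, orderOf_pow_of_dvd (pow_ne_zero _ (Fact.out (p := p.Prime)).ne_zero) (Nat.ordProj_dvd _ _)]
    exact (Nat.coprime_ordCompl Fact.out (orderOf_pos x).ne').symm
  have htop : (Y.subgroupOf L).map π = ⊤ := by
    by_contra hne
    obtain ⟨X, hX, hYX⟩ := (eq_top_or_exists_le_coatom ((Y.subgroupOf L).map π)).resolve_left hne
    haveI : X.Normal := (@Group.normalizerCondition_of_isNilpotent _ _ hpg.isNilpotent).normal_of_coatom X hX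
    refine hX.1 ?_
    have hle : L ≤ (X.comap π).map L.subtype := by
      refine hclo _ (fun y hy => ⟨⟨y, h.YL hy⟩, hYX ⟨⟨y, h.YL hy⟩, hy, rfl⟩, rfl⟩) fun w hw => ?_
      refine CfsgLib.LocalEven.mem_normalizer_of_conj_le ?_
      rintro _ ⟨_, ⟨y, hy, rfl⟩, rfl⟩
      exact ⟨⟨w, hw⟩ * y * ⟨w, hw⟩⁻¹, (inferInstance : (X.comap π).Normal).conj_mem y hy ⟨w, hw⟩, rfl⟩
    have htop : X.comap π = ⊤ := top_le_iff.1 fun y _ => by
      obtain ⟨z, hz, hzy⟩ := hle y.2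
      exact L.subtype_injective hzy ▸ hz
    rw [← Subgroup.map_comap_eq_self_of_surjective (QuotientGroup.mk'_surjective _) X, htop,
      Subgroup.map_top_of_surjective _ (QuotientGroup.mk'_surjective _)]
  -- `L` centralises `[V, Y]`
  refine h.not_fix_comm fun l hl => Subgroup.mem_centralizer_iff.2 fun a ha => ?_
  obtain ⟨y, hy, hye⟩ := htop.ge (Subgroup.mem_top (π ⟨l, hl⟩))
  have hc : ((y : K))⁻¹ * l ∈ Cv := (QuotientGroup.eq.1 hye :)
  have e1 : a * (y : K) = y * a := (h.P_fix ha (h.YP hy)).symm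
  have e2 : a * ((y : K)⁻¹ * l) = (y : K)⁻¹ * l * a :=
    Subgroup.mem_centralizer_iff.1 hc.2 a (h.comm_le ha).1
  calc a * l = a * (y : K) * ((y : K)⁻¹ * l) := by group
    _ = y * (a * ((y : K)⁻¹ * l)) := by rw [e1]; group
    _ = l * a := by rw [e2]; group

end Setting

end CfsgLib.LocalEven.AsymL
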